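import Groth.Agent.SepBase31.Normal
import Groth.Agent.WE91.LocalIntegral
import Groth.Agent.Henz21.FiniteLocal
import Groth.Agent.EGA4Alg4.IntegralDim

/-! A henselian local ring with residue field the ground field, tensored with a Galois extension. -/

set_option autoImplicit false

universe u

open TensorProduct IsLocalRing

namespace Groth.Agent.SepBase31

theorem henselian_tensor (k : Type u) [Field k] (M : Type u) [Field M] [Algebra k M] [IsGalois k M]
    (R : Type u) [CommRing R] [IsDomain R] [HenselianLocalRing R] [Algebra k R] [IsIntegrallyClosed R]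
    (hres : Function.Surjective (fun a : k => residue R (algebraMap k R a))) [IsDomain (R ⊗[k] M)] :
    ∃ _ : HenselianLocalRing (R ⊗[k] M), IsIntegrallyClosed (R ⊗[k] M) ∧
      ringKrullDim (R ⊗[k] M) = ringKrullDim R ∧
      Function.Surjective (fun a : M => residue (R ⊗[k] M)
        ((Algebra.TensorProduct.includeRight : M →ₐ[k] R ⊗[k] M) a)) := by
  haveI : Algebra.IsIntegral R (R ⊗[k] M) := inferInstance
  haveI : IsLocalRing (R ⊗[k] M) := WE91.isLocalRing_of_isIntegral_of_isDomain R _
  refine ⟨Henz21.henselianLocalRing_of_isIntegral (A := R), isIntegrallyClosed_tensor,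
    EGA4Alg4.ringKrullDim_eq_of_integral R _ includeLeft_injective, fun y => ?_⟩
  obtain ⟨b, rfl⟩ := residue_surjective y
  induction b using TensorProduct.induction_on with
  | zero => exact ⟨0, by simp⟩
  | tmul a e =>
    obtain ⟨c, hc⟩ := hres (residue R a)
    refine ⟨c • e, ?_⟩
    have hloc : algebraMap R (R ⊗[k] M) (algebraMap k R c - a) ∈ maximalIdeal (R ⊗[k] M) := by
      have h1 : algebraMap k R c - a ∈ maximalIdeal R := by
        rw [← residue_eq_zero_iff, map_sub]
        exact sub_eq_zero.2 hc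
      have h2 : (maximalIdeal (R ⊗[k] M)).comap (algebraMap R (R ⊗[k] M)) = maximalIdeal R :=
        eq_maximalIdeal (Ideal.isMaximal_comap_of_isIntegral_of_isMaximal _)
      rw [← h2] at h1
      exact h1
    show residue (R ⊗[k] M) ((1 : R) ⊗ₜ[k] (c • e)) = residue (R ⊗[k] M) (a ⊗ₜ[k] e)
    rw [← sub_eq_zero, ← map_sub, residue_eq_zero_iff]
    have h3 : (1 : R) ⊗ₜ[k] (c • e) - a ⊗ₜ[k] e =
        algebraMap R (R ⊗[k] M) (algebraMap k R c - a) * ((1 : R) ⊗ₜ[k] e) := by
      rw [Algebra.TensorProduct.algebraMap_apply, Algebra.TensorProduct.tmul_mul_tmul, Algebra.algebraMap_self,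
        RingHom.id_apply, mul_one, one_mul, TensorProduct.sub_tmul, ← TensorProduct.smul_tmul,
        Algebra.algebraMap_eq_smul_one]
    rw [h3]
    exact Ideal.mul_mem_right _ _ hloc
  | add x y hx hy =>
    obtain ⟨c, hc⟩ := hx
    obtain ⟨d, hd⟩ := hy
    refine ⟨c + d, ?_⟩
    dsimp only at hc hd ⊢
    rw [map_add, map_add, map_add, hc, hd]

end Groth.Agent.SepBase31
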