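import Mathlib.RingTheory.IntegralClosure.IntegrallyClosed
import Mathlib.RingTheory.Trace.Basic
import Mathlib.RingTheory.TensorProduct.Basic
import Mathlib.FieldTheory.Galois.GaloisClosure
import Mathlib.RingTheory.Algebraic.Integral
import Mathlib.RingTheory.RingHom.Flat
import Mathlib.LinearAlgebra.TensorProduct.Finiteness
import Mathlib.Algebra.BigOperators.Field

/-! Normality is preserved by a Galois extension of the constant field. -/

set_option autoImplicit false

universe u

open TensorProduct

namespace Groth.Agent.SepBase31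

theorem includeLeft_injective {k R M : Type u} [Field k] [CommRing R] [Algebra k R] [Field M] [Algebra k M] :
    Function.Injective (algebraMap R (R ⊗[k] M)) :=
  Algebra.TensorProduct.includeLeft_injective (S := R) (algebraMap k M).injective

/-- A normal domain stays normal after tensoring with a Galois extension, if it stays a domain. -/
theorem isIntegrallyClosed_tensor {k R M : Type u} [Field k] [CommRing R] [IsDomain R] [IsIntegrallyClosed R]
    [Algebra k R] [Field M] [Algebra k M] [IsGalois k M] [IsDomain (R ⊗[k] M)] :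
    IsIntegrallyClosed (R ⊗[k] M) := by
  classical
  set B := R ⊗[k] M
  set Ω := FractionRing B
  refine (isIntegrallyClosed_iff Ω).2 fun {x} hx => ?_
  have hint : Algebra.IsIntegral R B := inferInstance
  have hxR : IsIntegral R x := isIntegral_trans x hx
  have hRB : Function.Injective (algebraMap R B) := includeLeft_injective
  -- denominators in `R`
  obtain ⟨a₀, s, hs, rfl⟩ := IsFractionRing.div_surjective (A := B) x
  obtain ⟨r, hr, b', hb'⟩ := (hint.1 s).isAlgebraic.exists_nonzero_dvd hs
  set a := a₀ * b'
  have hr0 : algebraMap R Ω r ≠ 0 := by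
    rw [IsScalarTower.algebraMap_apply R B Ω]
    exact fun h => hr (hRB (by rw [map_zero]; exact IsFractionRing.injective B Ω (by rw [h, map_zero])))
  have hs0 : algebraMap B Ω s ≠ 0 := IsFractionRing.to_map_ne_zero_of_mem_nonZeroDivisors hs
  have hX : algebraMap B Ω a₀ / algebraMap B Ω s = algebraMap B Ω a / algebraMap R Ω r := by
    rw [div_eq_div_iff hs0 hr0, IsScalarTower.algebraMap_apply R B Ω, hb', ← map_mul, ← map_mul]
    congr 1
    ring
  rw [hX] at hxR ⊢
  -- a finite Galois field of definition of the numerator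
  obtain ⟨S, hS⟩ := TensorProduct.exists_finset a
  set F := FiniteGaloisIntermediateField.adjoin k ((S.image Prod.snd : Finset M) : Set M)
  let bas := Module.finBasis k F.toIntermediateField
  have hmem : ∀ i ∈ S, i.2 ∈ F.toIntermediateField := fun i hi =>
    FiniteGaloisIntermediateField.subset_adjoin k _ (Finset.mem_coe.2 (Finset.mem_image_of_mem _ hi))
  let co : Fin (Module.finrank k F.toIntermediateField) → R := fun l =>
    ∑ i ∈ S.attach, bas.repr ⟨i.1.2, hmem i.1 i.2⟩ l • i.1.1
  have ha : a = ∑ l, co l ⊗ₜ[k] ((bas l : F.toIntermediateField) : M) := by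
    simp only [co, sum_tmul, smul_tmul]
    rw [Finset.sum_comm, hS, ← Finset.sum_attach S]
    refine Finset.sum_congr rfl fun i _ => ?_
    rw [← tmul_sum]
    congr 1
    have h := congrArg (F.toIntermediateField.val) (bas.sum_repr ⟨i.1.2, hmem i.1 i.2⟩)
    simp only [map_sum, map_smul] at h
    exact h.symm
  let j : M →+* Ω := (algebraMap B Ω).comp (Algebra.TensorProduct.includeRight : M →ₐ[k] B).toRingHom
  have hjint : ∀ e : M, IsIntegral R (j e) := fun e =>
    (hint.1 ((1 : R) ⊗ₜ[k] e)).map (IsScalarTower.toAlgHom R B Ω)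
  have hja : algebraMap B Ω a = ∑ l, algebraMap R Ω (co l) * j ((bas l : F.toIntermediateField) : M) := by
    rw [ha, map_sum]
    refine Finset.sum_congr rfl fun l _ => ?_
    rw [IsScalarTower.algebraMap_apply R B Ω, show j _ = algebraMap B Ω _ from rfl, ← map_mul]
    congr 1
    show _ = (co l ⊗ₜ[k] (1 : M)) * ((1 : R) ⊗ₜ[k] _)
    rw [Algebra.TensorProduct.tmul_mul_tmul, mul_one, one_mul]
  -- conjugates of `x` are integral
  have hconj : ∀ σ : Gal(F.toIntermediateField/k),
      IsIntegral R ((∑ l, algebraMap R Ω (co l) * j ((σ (bas l) : F.toIntermediateField) : M)) / algebraMap R Ω r) := by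
    intro σ
    let τ : M ≃ₐ[k] M := σ.liftNormal M
    let e : B ≃ₐ[R] B := Algebra.TensorProduct.congr (AlgEquiv.refl : R ≃ₐ[R] R) τ
    have hg : Function.Injective ((IsScalarTower.toAlgHom R B Ω).comp e.toAlgHom) :=
      (IsFractionRing.injective B Ω).comp e.injective
    let T : Ω →ₐ[R] Ω := IsFractionRing.liftAlgHom hg
    have hTj : ∀ f : F.toIntermediateField, T (j (f : M)) = j ((σ f : F.toIntermediateField) : M) := fun f => by
      show T (algebraMap B Ω ((1 : R) ⊗ₜ[k] (f : M))) = algebraMap B Ω ((1 : R) ⊗ₜ[k] _)
      rw [IsFractionRing.liftAlgHom_apply, IsFractionRing.lift_algebraMap]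
      show algebraMap B Ω (e ((1 : R) ⊗ₜ[k] (f : M))) = _
      congr 1
      show (1 : R) ⊗ₜ[k] τ (f : M) = _
      rw [show (f : M) = algebraMap F.toIntermediateField M f from rfl, σ.liftNormal_commutes M f]
      rfl
    have h := hxR.map T
    rw [hja, map_div₀, map_sum, AlgHom.commutes] at h
    convert h using 3 with l
    rw [map_mul, AlgHom.commutes, hTj]
  -- the coefficients are integral over `R`
  have hco : ∀ i, IsIntegral R (algebraMap R Ω (co i) / algebraMap R Ω r) := fun i => by
    have key : algebraMap R Ω (co i) / algebraMap R Ω r = ∑ σ : Gal(F.toIntermediateField/k),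
        j ((σ (bas.traceDual i) : F.toIntermediateField) : M) *
          ((∑ l, algebraMap R Ω (co l) * j ((σ (bas l) : F.toIntermediateField) : M)) / algebraMap R Ω r) := by
      rw [Finset.sum_congr rfl (fun σ _ => (mul_div_assoc _ _ _).symm)]
      rw [← Finset.sum_div]
      congr 1
      rw [Finset.sum_congr rfl (fun σ _ => Finset.mul_sum _ _ _), Finset.sum_comm]
      have : ∀ l, (∑ σ : Gal(F.toIntermediateField/k), j ((σ (bas.traceDual i) : F.toIntermediateField) : M) *
          (algebraMap R Ω (co l) * j ((σ (bas l) : F.toIntermediateField) : M))) =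
          if l = i then algebraMap R Ω (co l) else 0 := fun l => by
        have h := congrArg (fun f : F.toIntermediateField => j (f : M))
          (trace_eq_sum_automorphisms (K := k) (bas.traceDual i * bas l))
        simp only [Module.Basis.trace_traceDual_mul, IntermediateField.coe_sum, map_sum, map_mul,
          IntermediateField.coe_mul] at h
        simp_rw [mul_left_comm _ (algebraMap R Ω (co l)), ← Finset.mul_sum, ← h]
        split_ifs <;> simp
      simp [this]
    rw [key]
    exact IsIntegral.sum _ fun σ _ => (hjint _).mul (hconj σ)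
  -- hence lie in `R`
  have hinj : Function.Injective (IsScalarTower.toAlgHom R B Ω |>.comp (Algebra.ofId R B)) :=
    (IsFractionRing.injective B Ω).comp hRB
  let g : FractionRing R →ₐ[R] Ω := IsFractionRing.liftAlgHom hinj
  have hc : ∀ i, ∃ c : R, algebraMap R Ω c = algebraMap R Ω (co i) / algebraMap R Ω r := fun i => by
    have h1 : g (algebraMap R (FractionRing R) (co i) / algebraMap R (FractionRing R) r) =
        algebraMap R Ω (co i) / algebraMap R Ω r := by
      rw [map_div₀, AlgHom.commutes, AlgHom.commutes]
    have h2 := (isIntegral_algHom_iff g g.toRingHom.injective).1 (h1 ▸ hco i)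
    obtain ⟨c, hc⟩ := IsIntegrallyClosed.isIntegral_iff.1 h2
    exact ⟨c, by rw [← h1, ← hc, AlgHom.commutes]⟩
  choose c hc using hc
  refine ⟨∑ l, c l ⊗ₜ[k] ((bas l : F.toIntermediateField) : M), ?_⟩
  rw [hja, map_sum, Finset.sum_div]
  refine Finset.sum_congr rfl fun l _ => ?_
  rw [mul_div_right_comm, ← hc, IsScalarTower.algebraMap_apply R B Ω, show j _ = algebraMap B Ω _ from rfl, ← map_mul]
  congr 1
  show _ = (c l ⊗ₜ[k] (1 : M)) * ((1 : R) ⊗ₜ[k] _)
  rw [Algebra.TensorProduct.tmul_mul_tmul, mul_one, one_mul]

end Groth.Agent.SepBase31
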